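import Cfsg.Agent.H831.Ore.M24Two
import Cfsg.Prelude.Def_Spor_Mathieu

/-!
# Every 2-element of `M23` is a commutator `[a, b]` with `a` of order 23 (helper831)

`a` of order 23 has no non-zero fixed vector on the two 11-dimensional modules.
`two_M24_fix` : the same for a 2-element of `M24` fixing a point, with `a` and `b` fixing this point.
-/

set_option autoImplicit false

namespace Cfsg.Agent.H831.Ore

open Cfsg Cfsg.Agent.SporadicStructure.M24El Cfsg.Agent.SporadicA.GolayPerm Cfsg.Agent.Lib.F2Mat
open Cfsg.Agent.H860.Two24 Cfsg.Agent.H860.Two24Data Cfsg.Agent.SporadicA.GolayBase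

/-- the elements `a` of order 23 fixing the point `i` of the `j`-th representative (entry `24 j + i`) -/
def fA : List ℕ :=
  [631569346625194963087176680223490624, 474506975394724318589953380016345129,
   311603060135337823117820060528937162, 390222762225945092488319695590626859,
   458521927324822695133957509756301426, 597160417436277146066133515921700593,
   891992987076042153096916794850269491, 523866107169648032272028769837523361,
   249447441552925298533347966498099949, 230381570169298587996789006977240706,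
   48722792094950256181489704495394070, 524426633985830749260943452917811751, 5666736187108643960484052310047817,
   258946343054445890499359435451223425, 893381284148073929866206600773022029,
   542891200813392046049208771057713672, 126522368435794174947780880066759307,
   468044035015834374815159778737986582, 183084580528567321024915878871342085,
   64259255644729455096323304605684436, 777775482586969396503071963088036268,
   268270745773833764068883415304769857, 485669017748752681605513606460965386,
   970280107809808707598105207610966133, 0, 524085514872634700216692182359229482, 0,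
   102044030466956783264339125806931620, 396870191003733480438460040624938305,
   834682520318744090296531198010960142, 0, 775567315766882055859643079830381161, 0, 0, 0, 0, 0, 0,
   921281101760898120022041556950400077, 0, 0, 0, 457514812518698797289789540040680144, 0,
   875333695544032236487650691931180502, 0, 0, 0, 0, 0, 0, 0, 0, 0, 0, 0, 0, 0, 0, 0, 0, 0, 0, 0, 0, 0, 0, 0, 0,
   0, 0, 0, 0, 0, 0, 0, 0, 0, 0, 0, 0, 0, 0, 0, 0, 0, 0, 0, 0, 0, 0, 0, 0, 0, 0, 0, 0,
   380749027587235792654827786033827888, 0, 0, 20912524284030212955564721530450603,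
   134040809370984330149247896036463809, 0, 0, 0, 0, 0, 0, 0, 0, 0, 0, 0, 0, 63825754910168107805273584527692819,
   0, 0, 0, 0, 0, 0, 0, 0, 0, 0, 0, 0, 0, 0, 0, 0, 0, 0, 0, 0, 0, 0, 0, 0, 0, 0, 0, 0, 0, 0, 0, 0, 0,
   714766633496838318110543106114529959, 0, 0, 0, 0, 0, 0, 0, 0, 0, 0, 0, 0, 0,
   61021474026611105105912735982626932, 0, 0, 0, 0, 0]

/-- the elements `b` -/
def fB : List ℕ :=
  [984818244535754528103549039458486304, 984818244535754528103549039458486304,
   984818244535754528103549039458486304, 984818244535754528103549039458486304,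
   984818244535754528103549039458486304, 984818244535754528103549039458486304,
   984818244535754528103549039458486304, 984818244535754528103549039458486304,
   984818244535754528103549039458486304, 984818244535754528103549039458486304,
   984818244535754528103549039458486304, 984818244535754528103549039458486304,
   984818244535754528103549039458486304, 984818244535754528103549039458486304,
   984818244535754528103549039458486304, 984818244535754528103549039458486304,
   984818244535754528103549039458486304, 984818244535754528103549039458486304,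
   984818244535754528103549039458486304, 984818244535754528103549039458486304,
   984818244535754528103549039458486304, 984818244535754528103549039458486304,
   984818244535754528103549039458486304, 984818244535754528103549039458486304, 0,
   944270798504156430068553612059234336, 0, 501407214779355811014586683585838528,
   775607483369885368171686250844370976, 735460980852309451240157121719950368, 0,
   851720860772974401254885179162974240, 0, 0, 0, 0, 0, 0, 516155798163260915478377130669235520, 0, 0, 0,
   424975608050303796399260031904697440, 0, 975406577376147733090967599779829248, 0, 0, 0, 0, 0, 0, 0, 0, 0, 0, 0,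
   0, 0, 0, 0, 0, 0, 0, 0, 0, 0, 0, 0, 0, 0, 0, 0, 0, 0, 0, 0, 0, 0, 0, 0, 0, 0, 0, 0, 0, 0, 0, 0, 0, 0, 0, 0, 0,
   0, 0, 0, 0, 567605221171729882823232977081308192, 0, 0, 680888417127398000338156133108242144,
   807826968236063266154943700009034784, 0, 0, 0, 0, 0, 0, 0, 0, 0, 0, 0, 0, 901165861989656396040219329390038176,
   0, 0, 0, 0, 0, 0, 0, 0, 0, 0, 0, 0, 0, 0, 0, 0, 0, 0, 0, 0, 0, 0, 0, 0, 0, 0, 0, 0, 0, 0, 0, 0, 0,
   221295892548217244436644692496746112, 0, 0, 0, 0, 0, 0, 0, 0, 0, 0, 0, 0, 0,
   306755503384569884914290231789324992, 0, 0, 0, 0, 0]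

/-- the check: `i` is moved by `r`, or `a, b` fix `i`, `r b a = a b`, `a ^ 23 = 1` and `a ≠ 1` -/
def chkF (j i : ℕ) : Bool :=
  !(Nat.beq (papp (rp.getD j idP) i) i) ||
  force (fA.getD (24 * j + i) 0) fun a => force (fB.getD (24 * j + i) 0) fun b => force (pcomp a a) fun a2 =>
    force (pcomp a2 a2) fun a4 => force (pcomp a4 a4) fun a8 => force (pcomp a8 a8) fun a16 =>
    (Nat.beq (papp a i) i && Nat.beq (papp b i) i) && (ok a && ok b &&
    Nat.beq (pcomp (pcomp (rp.getD j idP) b) a) (pcomp a b) &&
    Nat.beq (pcomp (pcomp (pcomp a16 a4) a2) a) idP &&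
    !(Nat.beq (papp a 0) 0 && Nat.beq (papp a 1) 1))

theorem chkF_all : ∀ j < 7, ∀ i < 24, chkF j i = true := by decide +kernel

theorem chkF_sound {j i : ℕ} (hi : i < 24) (h : chkF j i = true) (hf : el (rp.getD j idP) • pt i = pt i) :
    ∃ a b : M24, el (rp.getD j idP) = a * b * a⁻¹ * b⁻¹ ∧ orderOf a = 23 ∧ a • pt i = pt i ∧ b • pt i = pt i := by
  have hr : ok (rp.getD j idP) = true := ok_getD rp_ok j
  have hfi : papp (rp.getD j idP) i = i := by
    have h2 := idx_el_smul hr (pt i)
    rw [hf, idx_pt hi] at h2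
    exact h2.symm
  unfold chkF at h
  rw [hfi, show Nat.beq i i = true from Nat.beq_refl i] at h
  simp only [force_eq, Bool.and_eq_true, Bool.not_true, Bool.false_or] at h
  obtain ⟨⟨f1, f2⟩, ⟨⟨⟨ha, hb⟩, h1⟩, h2⟩, h3⟩ := h
  have ha2 := ok_pcomp ha ha
  have ha4 := ok_pcomp ha2 ha2
  have ha8 := ok_pcomp ha4 ha4
  have ha16 := ok_pcomp ha8 ha8
  have e1 := congrArg el (Nat.eq_of_beq_eq_true h1)
  rw [el_pcomp (ok_pcomp hr hb) ha, el_pcomp hr hb, el_pcomp ha hb] at e1
  have e2 := congrArg el (Nat.eq_of_beq_eq_true h2)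
  rw [el_pcomp (ok_pcomp (ok_pcomp ha16 ha4) ha2) ha, el_pcomp (ok_pcomp ha16 ha4) ha2, el_pcomp ha16 ha4,
    el_pcomp ha8 ha8, el_pcomp ha4 ha4, el_pcomp ha2 ha2, el_pcomp ha ha, el_idP] at e2
  refine ⟨el (fA.getD (24 * j + i) 0), el (fB.getD (24 * j + i) 0), ?_, ?_, ?_, ?_⟩
  · rw [eq_mul_inv_iff_mul_eq, eq_mul_inv_iff_mul_eq]
    exact e1
  · have : Fact (Nat.Prime 23) := ⟨by norm_num⟩
    refine orderOf_eq_prime ?_ (moved ha h3)
    rw [← e2]
    simp only [pow_succ, pow_zero, one_mul, mul_assoc]
  · rw [el_smul_pt ha, idx_pt hi, Nat.eq_of_beq_eq_true f1]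
  · rw [el_smul_pt hb, idx_pt hi, Nat.eq_of_beq_eq_true f2]

/-- a 2-element of `M24` fixing a point `x` is `[a, b]` with `a` of order 23, `a` and `b` fixing `x` -/
theorem two_M24_fix {u : M24} {n : ℕ} (hu : u ^ 2 ^ n = 1) {x : GolayPt} (hx : u • x = x) :
    ∃ a b : M24, u = a * b * a⁻¹ * b⁻¹ ∧ orderOf a = 23 ∧ a • x = x ∧ b • x = x := by
  obtain ⟨c, j, hc⟩ := two_conj hu
  have hfix : el (rp.getD j idP) • pt (idx (c • x)) = pt (idx (c • x)) := by
    rw [pt_idx, ← hc, mul_smul, mul_smul, inv_smul_smul, hx]
  have key : ∃ a b : M24, el (rp.getD j idP) = a * b * a⁻¹ * b⁻¹ ∧ orderOf a = 23 ∧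
      a • pt (idx (c • x)) = pt (idx (c • x)) ∧ b • pt (idx (c • x)) = pt (idx (c • x)) := by
    by_cases hj : j < 7
    · exact chkF_sound (idx_lt _) (chkF_all j hj _ (idx_lt _)) hfix
    · have e1 : rp.getD j idP = rp.getD 0 idP := by
        rw [List.getD_eq_default _ _ (by simpa [rp] using hj)]
        rfl
      rw [e1] at hfix ⊢
      exact chkF_sound (idx_lt _) (chkF_all 0 (by norm_num) _ (idx_lt _)) hfix
  rw [pt_idx] at key
  obtain ⟨a, b, h1, h2, h3, h4⟩ := key
  refine ⟨c⁻¹ * a * c, c⁻¹ * b * c, ?_, ?_, ?_, ?_⟩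
  · have e1 : u = c⁻¹ * el (rp.getD j idP) * c := by rw [← hc]; group
    rw [e1, h1]; group
  · have e1 : c⁻¹ * a * c = MulAut.conj c⁻¹ a := by rw [MulAut.conj_apply, inv_inv]
    rw [e1, MulEquiv.orderOf_eq]
    exact h2
  · rw [mul_smul, mul_smul, h3, inv_smul_smul]
  · rw [mul_smul, mul_smul, h4, inv_smul_smul]

/-- **every 2-element of `M23` is `[a, b]` with `a` of order 23** -/
theorem two_M23 {u : Spor.M23} {n : ℕ} (hu : u ^ 2 ^ n = 1) :
    ∃ a b : Spor.M23, u = a * b * a⁻¹ * b⁻¹ ∧ orderOf a = 23 := by
  have hu' : (⟨(u : Equiv.Perm GolayPt), u.2.1⟩ : M24) ^ 2 ^ n = 1 := by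
    apply Subtype.ext
    have h := congrArg (Subtype.val) hu
    simpa using h
  obtain ⟨a, b, h1, h2, h3, h4⟩ := two_M24_fix hu' (x := none) (MulAction.mem_stabilizer_iff.1 u.2.2)
  refine ⟨⟨a, a.2, MulAction.mem_stabilizer_iff.2 h3⟩, ⟨b, b.2, MulAction.mem_stabilizer_iff.2 h4⟩, ?_, ?_⟩
  · apply Subtype.ext
    have h := congrArg Subtype.val h1
    simpa using h
  · rw [← Subgroup.orderOf_coe]
    rw [← Subgroup.orderOf_coe] at h2
    exact h2

end Cfsg.Agent.H831.Ore
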