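import Cfsg.Agent.H860.Two24

/-!
# Every 2-element of `M24` is a commutator `[a, b]` with `a` of order 23 (helper831)

`a` of order 23 has no non-zero fixed vector on the Golay code modulo the all-one word, nor on the even cocode.
-/

set_option autoImplicit false

namespace Cfsg.Agent.H831.Ore

open Cfsg Cfsg.Agent.SporadicStructure.M24El Cfsg.Agent.SporadicA.GolayPerm Cfsg.Agent.Lib.F2Mat
open Cfsg.Agent.H860.Two24 Cfsg.Agent.H860.Two24Data Cfsg.Agent.SporadicA.GolayBase

/-- the elements `a` of order 23 -/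
def tA : List ℕ := [11062217551025546782733945786383684,
  924294347776970371705046738575427821,
  416135909271421895155297870865849733,
  665164728579811237774583528330187945,
  569290515599695637897617973589811956,
  57380302862175954334065655113394291,
  301709214038983397981834674545246511]

/-- the elements `b` -/
def tB : List ℕ := [984818244535754528103549039458486304,
  467841171362354931761016799640564416,
  887015815700408666268442169766392384,
  476974501233393352008190460909998656,
  851018930437245487054724249176654368,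
  314242645571671452184190628460145760,
  99061250315926660506212120833298720]

/-- the check: `r b a = a b`, `a ^ 23 = 1` and `a ≠ 1` -/
def chk (j : ℕ) : Bool :=
  force (tA.getD j idP) fun a => force (tB.getD j idP) fun b => force (pcomp a a) fun a2 =>
    force (pcomp a2 a2) fun a4 => force (pcomp a4 a4) fun a8 => force (pcomp a8 a8) fun a16 =>
    ok a && ok b && Nat.beq (pcomp (pcomp (rp.getD j idP) b) a) (pcomp a b) &&
    Nat.beq (pcomp (pcomp (pcomp a16 a4) a2) a) idP &&
    !(Nat.beq (papp a 0) 0 && Nat.beq (papp a 1) 1)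

theorem chk_all : ∀ j < 7, chk j = true := by decide +kernel

theorem moved {P : ℕ} (hP : ok P = true) (h : (!(Nat.beq (papp P 0) 0 && Nat.beq (papp P 1) 1)) = true) : el P ≠ 1 := by
  intro h1
  have key : ∀ i < 24, papp P i = i := by
    intro i hi
    have h2 := idx_el_smul hP (pt i)
    rw [h1, one_smul, idx_pt hi] at h2
    exact h2.symm
  rw [key 0 (by norm_num), key 1 (by norm_num)] at h
  exact absurd h (by decide)

theorem chk_sound {j : ℕ} (h : chk j = true) :
    ∃ a b : M24, el (rp.getD j idP) = a * b * a⁻¹ * b⁻¹ ∧ orderOf a = 23 := by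
  unfold chk at h
  simp only [force_eq, Bool.and_eq_true] at h
  obtain ⟨⟨⟨⟨ha, hb⟩, h1⟩, h2⟩, h3⟩ := h
  have hr : ok (rp.getD j idP) = true := ok_getD rp_ok j
  have ha2 := ok_pcomp ha ha
  have ha4 := ok_pcomp ha2 ha2
  have ha8 := ok_pcomp ha4 ha4
  have ha16 := ok_pcomp ha8 ha8
  have e1 := congrArg el (Nat.eq_of_beq_eq_true h1)
  rw [el_pcomp (ok_pcomp hr hb) ha, el_pcomp hr hb, el_pcomp ha hb] at e1
  have e2 := congrArg el (Nat.eq_of_beq_eq_true h2)
  rw [el_pcomp (ok_pcomp (ok_pcomp ha16 ha4) ha2) ha, el_pcomp (ok_pcomp ha16 ha4) ha2, el_pcomp ha16 ha4,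
    el_pcomp ha8 ha8, el_pcomp ha4 ha4, el_pcomp ha2 ha2, el_pcomp ha ha, el_idP] at e2
  refine ⟨el (tA.getD j idP), el (tB.getD j idP), ?_, ?_⟩
  · rw [eq_mul_inv_iff_mul_eq, eq_mul_inv_iff_mul_eq]
    exact e1
  · have : Fact (Nat.Prime 23) := ⟨by norm_num⟩
    refine orderOf_eq_prime ?_ (moved ha h3)
    rw [← e2]
    simp only [pow_succ, pow_zero, one_mul, mul_assoc]

/-- **every 2-element of `M24` is `[a, b]` with `a` of order 23** -/
theorem two_M24 {u : M24} {n : ℕ} (hu : u ^ 2 ^ n = 1) :
    ∃ a b : M24, u = a * b * a⁻¹ * b⁻¹ ∧ orderOf a = 23 := by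
  obtain ⟨c, j, hc⟩ := two_conj hu
  have key : ∃ a b : M24, el (rp.getD j idP) = a * b * a⁻¹ * b⁻¹ ∧ orderOf a = 23 := by
    by_cases hj : j < 7
    · exact chk_sound (chk_all j hj)
    · have e1 : rp.getD j idP = rp.getD 0 idP := by
        rw [List.getD_eq_default _ _ (by simpa [rp] using hj)]
        rfl
      rw [e1]
      exact chk_sound (chk_all 0 (by norm_num))
  obtain ⟨a, b, h1, h2⟩ := key
  refine ⟨c⁻¹ * a * c, c⁻¹ * b * c, ?_, ?_⟩
  · have e1 : u = c⁻¹ * el (rp.getD j idP) * c := by rw [← hc]; group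
    rw [e1, h1]; group
  · have e1 : c⁻¹ * a * c = MulAut.conj c⁻¹ a := by rw [MulAut.conj_apply, inv_inv]
    rw [e1, MulEquiv.orderOf_eq]
    exact h2

end Cfsg.Agent.H831.Ore
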